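import Groth.Agent.TrivDef.Basic
import Groth.Agent.NilAffine.Main
import Mathlib

/-! First-order deformations of smooth affine schemes with marked points are trivial. -/

set_option autoImplicit false
set_option linter.style.haveILetI false

universe u v

open CategoryTheory CategoryTheory.Limits AlgebraicGeometry TensorProduct

noncomputable section

namespace Groth.Agent.MarkedDef

/-- A derivation with prescribed values at finitely many distinct rational points. -/
theorem exists_derivation {k R : Type u} [Field k] [CommRing R] [Algebra k R] [Algebra.FormallySmooth k R]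
    {ι : Type v} [Finite ι] (V : ι → (R →ₐ[k] k)) (hV : Function.Injective V) (d : ι → (R →ₗ[k] k))
    (hd : ∀ j r s, d j (r * s) = V j r * d j s + V j s * d j r) :
    ∃ D : Derivation k R R, ∀ j r, V j (D r) = d j r := by
  classical
  let W : R →ₐ[k] (ι → k) := Pi.algHom k (fun _ : ι => k) V
  have hW : Function.Surjective W := by
    have hcop : Pairwise fun a b => IsCoprime (RingHom.ker (V a : R →+* k)) (RingHom.ker (V b : R →+* k)) := by
      intro a b hab
      haveI ha : (RingHom.ker (V a : R →+* k)).IsMaximal :=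
        RingHom.ker_isMaximal_of_surjective _ fun c => ⟨algebraMap k R c, (V a).commutes c⟩
      haveI hb : (RingHom.ker (V b : R →+* k)).IsMaximal :=
        RingHom.ker_isMaximal_of_surjective _ fun c => ⟨algebraMap k R c, (V b).commutes c⟩
      refine Ideal.isCoprime_iff_sup_eq.2 (Ideal.IsMaximal.coprime_of_ne ha hb fun heq => hab (hV ?_))
      refine AlgHom.ext fun r => ?_
      have h1 : r - algebraMap k R (V a r) ∈ RingHom.ker (V a : R →+* k) := by simp
      rw [heq] at h1
      have h2 : V b r - V a r = 0 := by simpa using h1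
      exact (sub_eq_zero.1 h2).symm
    intro y
    choose r hr using fun j => ((fun c => ⟨algebraMap k R c, (V j).commutes c⟩ :
      Function.Surjective (V j)) (y j))
    obtain ⟨x, hx⟩ := Ideal.quotientInfToPiQuotient_surj hcop fun j => Ideal.Quotient.mk _ (r j)
    obtain ⟨x, rfl⟩ := Ideal.Quotient.mk_surjective x
    refine ⟨x, funext fun j => ?_⟩
    have h1 : Ideal.Quotient.mk (RingHom.ker (V j : R →+* k)) x = Ideal.Quotient.mk _ (r j) := congrFun hx j
    rw [Ideal.Quotient.eq, RingHom.mem_ker, RingHom.coe_coe, map_sub, sub_eq_zero] at h1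
    exact h1.trans (hr j)
  letI : Algebra R (ι → k) := W.toRingHom.toAlgebra
  haveI : IsScalarTower k R (ι → k) := IsScalarTower.of_algebraMap_eq fun c => (W.commutes c).symm
  let dd : Derivation k R (ι → k) :=
    { toLinearMap := LinearMap.pi d
      map_one_eq_zero' := funext fun j => by
        have h1 := hd j 1 1
        simp only [one_mul, map_one] at h1
        exact left_eq_add.1 h1
      leibniz' := fun r s => funext fun j => by
        show d j (r * s) = V j r * d j s + V j s * d j r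
        exact hd j r s }
  haveI : Module.Projective R (Ω[R⁄k]) := Algebra.FormallySmooth.projective_kaehlerDifferential
  obtain ⟨f, hf⟩ := Module.projective_lifting_property (Algebra.linearMap R (ι → k)) dd.liftKaehlerDifferential hW
  refine ⟨f.compDer (KaehlerDifferential.D k R), fun j r => ?_⟩
  have h1 := LinearMap.congr_fun hf (KaehlerDifferential.D k R r)
  rw [Derivation.liftKaehlerDifferential_comp_D] at h1
  exact congrFun h1 j

/-- The algebra statement. -/
theorem exists_section {k R B : Type u} [Field k] [CommRing R] [CommRing B] [Algebra k R] [Algebra (DualNumber k) B]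
    [Algebra k B] [IsScalarTower k (DualNumber k) B] [Algebra.FormallySmooth k R] [Module.Flat (DualNumber k) B]
    {ι : Type v} [Finite ι] (V : ι → (R →ₐ[k] k)) (hV : Function.Injective V)
    (π : B →ₐ[k] R) (hπ : Function.Surjective π)
    (hker : ∀ b, π b = 0 → b ∈ (IsLocalRing.maximalIdeal (DualNumber k)).map (algebraMap (DualNumber k) B))
    (he : ∀ a : DualNumber k, π (algebraMap (DualNumber k) B a) = algebraMap k R (TrivSqZeroExt.fst a))
    (u : ι → (B →ₐ[DualNumber k] DualNumber k)) (hu : ∀ j b, TrivSqZeroExt.fst (u j b) = V j (π b)) :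
    ∃ σ : R →ₐ[k] B, (∀ r, π (σ r) = r) ∧ (∀ j r, u j (σ r) = algebraMap k (DualNumber k) (V j r)) ∧
      Function.Bijective (Algebra.TensorProduct.lift (Algebra.ofId (DualNumber k) B) σ (fun _ _ => Commute.all _ _)) := by
  let ε : DualNumber k := DualNumber.eps
  haveI : Module.Finite k (DualNumber k) := Module.Finite.prod (R := k) (M := k) (N := k)
  haveI : IsArtinianRing (DualNumber k) := IsArtinianRing.of_finite k (DualNumber k)
  obtain ⟨σ₀, hσ₀⟩ := TrivDef.exists_algEquiv k (DualNumber k) R B (TrivSqZeroExt.fstHom k k k) π hπ hker he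
  set Ψ₀ := Algebra.TensorProduct.lift (Algebra.ofId (DualNumber k) B) σ₀ (fun _ _ => Commute.all _ _)
  -- normalise `σ₀`
  have hεε : ε * ε = 0 := DualNumber.eps_mul_eps
  have hεB : algebraMap (DualNumber k) B ε * algebraMap (DualNumber k) B ε = 0 := by rw [← map_mul, hεε, map_zero]
  have hπε : π (algebraMap (DualNumber k) B ε) = 0 := by
    rw [he]; simp [ε]
  let η : R →ₐ[k] R := π.comp σ₀
  have hηsurj : Function.Surjective η := by
    intro r
    obtain ⟨b, rfl⟩ := hπ r
    obtain ⟨z, rfl⟩ := hσ₀.2 b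
    induction z using TensorProduct.induction_on with
    | zero => exact ⟨0, by simp⟩
    | add x y hx hy => obtain ⟨r, hr⟩ := hx; obtain ⟨s, hs⟩ := hy; exact ⟨r + s, by rw [map_add, hr, hs, map_add, map_add]⟩
    | tmul a r =>
      refine ⟨TrivSqZeroExt.fst a • r, ?_⟩
      simp only [Ψ₀, Algebra.TensorProduct.lift_tmul, map_mul, Algebra.ofId_apply, he, η, AlgHom.comp_apply, map_smul,
        Algebra.smul_def, AlgHom.commutes]
  have hηinj : Function.Injective η := by
    rw [injective_iff_map_eq_zero]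
    intro r hr
    obtain ⟨y, hy⟩ : ∃ y, σ₀ r = algebraMap (DualNumber k) B ε * y := by
      have h1 := hker _ hr
      rw [DualNumber.maximalIdeal_eq_span_singleton_eps, Ideal.map_span, Set.image_singleton,
        Ideal.mem_span_singleton] at h1
      exact h1
    obtain ⟨z, rfl⟩ := hσ₀.2 y
    have h2 : Ψ₀ ((1 : DualNumber k) ⊗ₜ[k] r) = Ψ₀ (ε • z) := by
      rw [map_smul, Algebra.smul_def, ← hy]
      simp [Ψ₀]
    have h3 := congrArg (TensorProduct.map (TrivSqZeroExt.fstHom k k k).toLinearMap (LinearMap.id : R →ₗ[k] R)) (hσ₀.1 h2)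
    have h4 : ∀ w : DualNumber k ⊗[k] R,
        TensorProduct.map (TrivSqZeroExt.fstHom k k k).toLinearMap (LinearMap.id : R →ₗ[k] R) (ε • w) = 0 := fun w => by
      induction w using TensorProduct.induction_on with
      | zero => simp
      | add x y hx hy => rw [smul_add, map_add, hx, hy, add_zero]
      | tmul a r => rw [TensorProduct.smul_tmul']; simp [ε]
    rw [h4] at h3
    have h5 := congrArg (TensorProduct.lid k R) h3
    simpa using h5
  let ηe : R ≃ₐ[k] R := AlgEquiv.ofBijective η ⟨hηinj, hηsurj⟩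
  let σ₁ : R →ₐ[k] B := σ₀.comp ηe.symm.toAlgHom
  have hσ₁ : ∀ r, π (σ₁ r) = r := fun r => ηe.apply_symm_apply r
  have hΨ₁ : Function.Bijective (Algebra.TensorProduct.lift (Algebra.ofId (DualNumber k) B) σ₁ (fun _ _ => Commute.all _ _)) := by
    have e1 : ⇑(Algebra.TensorProduct.lift (Algebra.ofId (DualNumber k) B) σ₁ (fun _ _ => Commute.all _ _)) =
        ⇑Ψ₀ ∘ ⇑(LinearEquiv.lTensor (DualNumber k) ηe.symm.toLinearEquiv) := funext fun z => by
      induction z using TensorProduct.induction_on with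
      | zero => simp
      | add x y hx hy => simp only [Function.comp_apply, map_add] at hx hy ⊢; rw [hx, hy]
      | tmul a r => simp [Ψ₀, σ₁]
    rw [e1]
    exact hσ₀.comp (LinearEquiv.bijective _)
  -- the correction
  let d : ι → (R →ₗ[k] k) := fun j =>
    { toFun := fun r => TrivSqZeroExt.snd (u j (σ₁ r))
      map_add' := fun r s => by simp
      map_smul' := fun c r => by
        rw [map_smul, RingHom.id_apply, ← algebraMap_smul (DualNumber k) c (σ₁ r), map_smul]
        simp [TrivSqZeroExt.algebraMap_eq_inl] }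
  have hfst : ∀ j r, TrivSqZeroExt.fst (u j (σ₁ r)) = V j r := fun j r => by rw [hu, hσ₁]
  obtain ⟨D, hD⟩ := exists_derivation V hV d fun j r s => by
    show TrivSqZeroExt.snd (u j (σ₁ (r * s))) = _
    rw [map_mul, map_mul, DualNumber.snd_mul, hfst, hfst]
    show _ = V j r * TrivSqZeroExt.snd (u j (σ₁ s)) + V j s * TrivSqZeroExt.snd (u j (σ₁ r))
    ring
  let σ : R →ₐ[k] B :=
    { toFun := fun r => σ₁ r - algebraMap (DualNumber k) B ε * σ₁ (D r)
      map_one' := by simp
      map_zero' := by simp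
      map_add' := fun r s => by simp only [map_add]; ring
      map_mul' := fun r s => by
        rw [D.leibniz, map_add, smul_eq_mul, smul_eq_mul, map_mul, map_mul, map_mul]
        linear_combination (-(σ₁ (D r) * σ₁ (D s))) * hεB
      commutes' := fun c => by simp }
  refine ⟨σ, fun r => ?_, fun j r => ?_, ?_⟩
  · show π (σ₁ r - algebraMap (DualNumber k) B ε * σ₁ (D r)) = r
    rw [map_sub, map_mul, hπε, zero_mul, sub_zero, hσ₁]
  · show u j (σ₁ r - algebraMap (DualNumber k) B ε * σ₁ (D r)) = _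
    rw [map_sub, map_mul, AlgHom.commutes]
    ext
    · simp [ε, hfst, TrivSqZeroExt.algebraMap_eq_inl]
    · simp [ε, hfst, hD, d, TrivSqZeroExt.algebraMap_eq_inl, DualNumber.snd_mul]
  · set Ψ₁ := Algebra.TensorProduct.lift (Algebra.ofId (DualNumber k) B) σ₁ (fun _ _ => Commute.all _ _)
    let N : DualNumber k ⊗[k] R →ₗ[k] DualNumber k ⊗[k] R :=
      TensorProduct.map (LinearMap.mulLeft k ε) D.toLinearMap
    have hNN : ∀ z, N (N z) = 0 := fun z => by
      induction z using TensorProduct.induction_on with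
      | zero => simp
      | add x y hx hy => rw [map_add, map_add, hx, hy, add_zero]
      | tmul a r => simp [N, ← mul_assoc, hεε]
    have hbij : Function.Bijective (fun z => z - N z) := by
      refine Function.bijective_iff_has_inverse.2 ⟨fun z => z + N z, fun z => ?_, fun z => ?_⟩
      · show z - N z + N (z - N z) = z
        rw [map_sub, hNN, sub_zero, sub_add_cancel]
      · show z + N z - N (z + N z) = z
        rw [map_add, hNN, add_zero, add_sub_cancel_right]
    have e2 : ⇑(Algebra.TensorProduct.lift (Algebra.ofId (DualNumber k) B) σ (fun _ _ => Commute.all _ _)) =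
        ⇑Ψ₁ ∘ (fun z => z - N z) := funext fun z => by
      induction z using TensorProduct.induction_on with
      | zero => simp
      | add x y hx hy =>
        simp only [Function.comp_apply, map_add, map_sub] at hx hy ⊢
        rw [hx, hy]; ring
      | tmul a r =>
        simp only [Function.comp_apply, map_sub, N, TensorProduct.map_tmul, Ψ₁, Algebra.TensorProduct.lift_tmul,
          LinearMap.mulLeft_apply, Algebra.ofId_apply, map_mul]
        show algebraMap (DualNumber k) B a * (σ₁ r - algebraMap (DualNumber k) B ε * σ₁ (D r)) = _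
        rw [Derivation.coeFn_coe]
        ring
    rw [e2]
    exact hΨ₁.comp hbij

/-- The scheme statement. -/
theorem main (k : Type u) [Field k] (X : Scheme.{u}) (hX : X ⟶ Spec (CommRingCat.of k)) [IsAffine X] [Smooth hX]
    {ι : Type v} [Finite ι] (p : ι → (Spec (CommRingCat.of k) ⟶ X)) (hp : ∀ j, p j ≫ hX = 𝟙 _)
    (hinj : Function.Injective p)
    (X' : Scheme.{u}) (g : X' ⟶ Spec (CommRingCat.of (DualNumber k))) [Flat g] (i : X ⟶ X')
    (hsq : IsPullback i hX g
      (Spec.map (CommRingCat.ofHom (TrivSqZeroExt.fstHom k k k).toRingHom)))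
    (p' : ι → (Spec (CommRingCat.of (DualNumber k)) ⟶ X')) (hp' : ∀ j, p' j ≫ g = 𝟙 _)
    (hpp' : ∀ j, p j ≫ i = Spec.map (CommRingCat.ofHom (TrivSqZeroExt.fstHom k k k).toRingHom) ≫ p' j) :
    ∃ φ : X' ≅ Limits.pullback hX (Spec.map (CommRingCat.ofHom (algebraMap k (DualNumber k)))),
      φ.hom ≫ Limits.pullback.snd hX (Spec.map (CommRingCat.ofHom (algebraMap k (DualNumber k)))) = g ∧
        i ≫ φ.hom ≫ Limits.pullback.fst hX (Spec.map (CommRingCat.ofHom (algebraMap k (DualNumber k)))) = 𝟙 X ∧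
          ∀ j, p' j ≫ φ.hom ≫
              Limits.pullback.fst hX (Spec.map (CommRingCat.ofHom (algebraMap k (DualNumber k)))) =
            Spec.map (CommRingCat.ofHom (algebraMap k (DualNumber k))) ≫ p j := by
  let ef : CommRingCat.of (DualNumber k) ⟶ CommRingCat.of k := CommRingCat.ofHom (TrivSqZeroExt.fstHom k k k).toRingHom
  have hsurj0 : Function.Surjective ef.hom := fun c => ⟨TrivSqZeroExt.inl c, rfl⟩
  haveI : IsClosedImmersion (Spec.map ef) := IsClosedImmersion.spec_of_surjective ef hsurj0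
  haveI : Surjective (Spec.map ef) := ⟨fun q => ⟨IsLocalRing.closedPoint k, PrimeSpectrum.ext (by
    show _ = q.asIdeal
    haveI : (RingHom.ker ef.hom).IsMaximal := RingHom.ker_isMaximal_of_surjective _ hsurj0
    have hle : RingHom.ker ef.hom ≤ q.asIdeal := by
      intro a ha
      refine q.2.mem_of_pow_mem 2 ?_
      have ha' : TrivSqZeroExt.fst a = 0 := ha
      have h2 : a ^ 2 = 0 := by ext <;> simp [sq, ha', DualNumber.snd_mul]
      rw [h2]; exact q.asIdeal.zero_mem
    rw [← Ideal.IsMaximal.eq_of_le inferInstance q.2.ne_top hle]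
    show (IsLocalRing.maximalIdeal k).comap ef.hom = _
    rw [IsLocalRing.isField_iff_maximalIdeal_eq.1 (Field.toIsField k)]
    rfl)⟩⟩
  haveI hicl : IsClosedImmersion i := MorphismProperty.of_isPullback hsq.flip ‹IsClosedImmersion (Spec.map ef)›
  haveI : Surjective i := MorphismProperty.of_isPullback hsq.flip ‹Surjective (Spec.map ef)›
  haveI : IsAffine X' := NilAffine.isAffine_of_surjective i
  -- rings
  let φR : CommRingCat.of k ⟶ Γ(X, ⊤) := Spec.preimage (X.isoSpec.inv ≫ hX)
  let φB : CommRingCat.of (DualNumber k) ⟶ Γ(X', ⊤) := Spec.preimage (X'.isoSpec.inv ≫ g)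
  letI : Algebra k Γ(X, ⊤) := φR.hom.toAlgebra
  letI : Algebra (DualNumber k) Γ(X', ⊤) := φB.hom.toAlgebra
  letI : Algebra k Γ(X', ⊤) := (φB.hom.comp (algebraMap k (DualNumber k))).toAlgebra
  haveI : IsScalarTower k (DualNumber k) Γ(X', ⊤) := ⟨fun c a b => by
    show φB.hom (c • a) * b = φB.hom (algebraMap k (DualNumber k) c) * (φB.hom a * b)
    rw [Algebra.smul_def c a, map_mul, mul_assoc]⟩
  haveI : Module.Flat (DualNumber k) Γ(X', ⊤) := by
    have h1 : Flat (Spec.map φB) := by rw [Spec.map_preimage]; infer_instance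
    exact (HasRingHomProperty.Spec_iff (P := @Flat)).1 h1
  haveI : Algebra.FormallySmooth k Γ(X, ⊤) := by
    have h1 : Smooth (Spec.map φR) := by rw [Spec.map_preimage]; infer_instance
    have h2 : φR.hom.Smooth := (HasRingHomProperty.Spec_iff (P := @Smooth)).1 h1
    haveI : Algebra.Smooth k Γ(X, ⊤) := h2
    infer_instance
  let pR : Γ(X', ⊤) ⟶ Γ(X, ⊤) := Spec.preimage (X.isoSpec.inv ≫ i ≫ X'.isoSpec.hom)
  have hpRg : φB ≫ pR = ef ≫ φR := by
    apply Spec.map_injective
    rw [Spec.map_comp, Spec.map_comp, Spec.map_preimage, Spec.map_preimage, Spec.map_preimage]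
    simp [hsq.w, ef]
  let π : Γ(X', ⊤) →ₐ[k] Γ(X, ⊤) := { pR.hom with
    commutes' := fun c => by
      show pR.hom (φB.hom (algebraMap k (DualNumber k) c)) = φR.hom c
      rw [show pR.hom (φB.hom (algebraMap k (DualNumber k) c)) = (φB ≫ pR).hom (algebraMap k (DualNumber k) c) from rfl,
        hpRg]
      rfl }
  have hπ : Function.Surjective π := by
    haveI : IsClosedImmersion (Spec.map pR) := by rw [Spec.map_preimage]; infer_instance
    intro r
    obtain ⟨y, hy⟩ := (IsClosedImmersion.isAffine_surjective_of_isAffine (Spec.map pR)).2 ((Scheme.ΓSpecIso _).inv r)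
    refine ⟨(Scheme.ΓSpecIso _).hom y, ?_⟩
    have h4 := congrArg (fun m => m.hom y) (Scheme.ΓSpecIso_naturality pR)
    simp only [CommRingCat.hom_comp, RingHom.comp_apply] at h4
    show pR.hom _ = r
    rw [← h4, hy]
    simp
  have he : ∀ a : DualNumber k, π (algebraMap (DualNumber k) Γ(X', ⊤) a) = algebraMap k Γ(X, ⊤) (TrivSqZeroExt.fst a) :=
    fun a => congrArg (fun m : CommRingCat.of (DualNumber k) ⟶ Γ(X, ⊤) => m.hom a) hpRg
  have hker : ∀ b, π b = 0 → b ∈ (IsLocalRing.maximalIdeal (DualNumber k)).map (algebraMap (DualNumber k) Γ(X', ⊤)) := by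
    intro b hb
    let J := (IsLocalRing.maximalIdeal (DualNumber k)).map (algebraMap (DualNumber k) Γ(X', ⊤))
    let q : Γ(X', ⊤) ⟶ CommRingCat.of (Γ(X', ⊤) ⧸ J) := CommRingCat.ofHom (Ideal.Quotient.mk J)
    let c0 : CommRingCat.of k ⟶ CommRingCat.of (Γ(X', ⊤) ⧸ J) :=
      CommRingCat.ofHom ((Ideal.Quotient.mk J).comp (φB.hom.comp (algebraMap k (DualNumber k))))
    have hw : φB ≫ q = ef ≫ c0 := by
      refine CommRingCat.hom_ext (RingHom.ext fun a => ?_)
      show Ideal.Quotient.mk J (φB.hom a) = Ideal.Quotient.mk J (φB.hom (algebraMap k (DualNumber k) (TrivSqZeroExt.fst a)))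
      rw [Ideal.Quotient.eq, ← map_sub]
      refine Ideal.mem_map_of_mem _ ?_
      rw [DualNumber.maximalIdeal_eq_span_singleton_eps, Ideal.mem_span_singleton]
      exact ⟨algebraMap k (DualNumber k) (TrivSqZeroExt.snd a), by
        ext <;> simp [TrivSqZeroExt.algebraMap_eq_inl, DualNumber.snd_mul]⟩
    let l := hsq.lift (Spec.map q ≫ X'.isoSpec.inv) (Spec.map c0) (by
      rw [Category.assoc, show X'.isoSpec.inv ≫ g = Spec.map φB from (Spec.map_preimage _).symm, ← Spec.map_comp,
        ← Spec.map_comp, hw])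
    have h1 : pR ≫ Spec.preimage (l ≫ X.isoSpec.hom) = q := by
      apply Spec.map_injective
      rw [Spec.map_comp, Spec.map_preimage, Spec.map_preimage]
      have h2 : l ≫ i = Spec.map q ≫ X'.isoSpec.inv := hsq.lift_fst _ _ _
      simp [reassoc_of% h2]
    have h3 := congrArg (fun m : Γ(X', ⊤) ⟶ CommRingCat.of (Γ(X', ⊤) ⧸ J) => m.hom b) h1
    refine Ideal.Quotient.eq_zero_iff_mem.1 (h3.symm.trans ?_)
    show (Spec.preimage (l ≫ X.isoSpec.hom)).hom (π b) = 0
    rw [hb, map_zero]
  let vR : ι → (Γ(X, ⊤) ⟶ CommRingCat.of k) := fun j => Spec.preimage (p j ≫ X.isoSpec.hom)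
  have hvR : ∀ j, φR ≫ vR j = 𝟙 _ := fun j => by
    apply Spec.map_injective
    rw [Spec.map_comp, Spec.map_id, Spec.map_preimage, Spec.map_preimage]
    simp [hp]
  let V : ι → (Γ(X, ⊤) →ₐ[k] k) := fun j => { (vR j).hom with
    commutes' := fun c => congrArg (fun m : CommRingCat.of k ⟶ CommRingCat.of k => m.hom c) (hvR j) }
  have hV : Function.Injective V := fun a b h => hinj (by
    have h1 : vR a = vR b := CommRingCat.hom_ext (congrArg AlgHom.toRingHom h)
    have h2 : p a ≫ X.isoSpec.hom = p b ≫ X.isoSpec.hom := by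
      rw [← Spec.map_preimage (p a ≫ X.isoSpec.hom), ← Spec.map_preimage (p b ≫ X.isoSpec.hom)]
      exact congrArg Spec.map h1
    exact (cancel_mono _).1 h2)
  let uB : ι → (Γ(X', ⊤) ⟶ CommRingCat.of (DualNumber k)) := fun j => Spec.preimage (p' j ≫ X'.isoSpec.hom)
  have huB : ∀ j, φB ≫ uB j = 𝟙 _ := fun j => by
    apply Spec.map_injective
    rw [Spec.map_comp, Spec.map_id, Spec.map_preimage, Spec.map_preimage]
    simp [hp']
  let U : ι → (Γ(X', ⊤) →ₐ[DualNumber k] DualNumber k) := fun j => { (uB j).hom with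
    commutes' := fun c => congrArg (fun m : CommRingCat.of (DualNumber k) ⟶ CommRingCat.of (DualNumber k) => m.hom c) (huB j) }
  have huv : ∀ j, uB j ≫ ef = pR ≫ vR j := fun j => by
    apply Spec.map_injective
    rw [Spec.map_comp, Spec.map_comp, Spec.map_preimage, Spec.map_preimage, Spec.map_preimage]
    simp [reassoc_of% (hpp' j), ef]
  obtain ⟨σ, hπσ, hUσ, hbij⟩ := exists_section V hV π hπ hker he U fun j b =>
    congrArg (fun m : Γ(X', ⊤) ⟶ CommRingCat.of k => m.hom b) (huv j)
  let sB : Γ(X, ⊤) ⟶ Γ(X', ⊤) := CommRingCat.ofHom σ.toRingHom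
  let ρ : X' ⟶ X := X'.isoSpec.hom ≫ Spec.map sB ≫ X.isoSpec.inv
  -- the pullback square
  let Ψ : (DualNumber k ⊗[k] Γ(X, ⊤)) ≃+* Γ(X', ⊤) := RingEquiv.ofBijective
    (Algebra.TensorProduct.lift (Algebra.ofId (DualNumber k) Γ(X', ⊤)) σ (fun _ _ => Commute.all _ _)).toRingHom hbij
  let Ψi : CommRingCat.of (DualNumber k ⊗[k] Γ(X, ⊤)) ≅ Γ(X', ⊤) := Ψ.toCommRingCatIso
  let eΨ : X' ≅ Spec (CommRingCat.of (DualNumber k ⊗[k] Γ(X, ⊤))) := X'.isoSpec ≪≫ Scheme.Spec.mapIso Ψi.op
  let a₁ : Spec (CommRingCat.of (DualNumber k)) ⟶ Spec (CommRingCat.of k) :=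
    Spec.map (CommRingCat.ofHom (algebraMap k (DualNumber k)))
  let a₂ : Spec (CommRingCat.of Γ(X, ⊤)) ⟶ Spec (CommRingCat.of k) :=
    Spec.map (CommRingCat.ofHom (algebraMap k Γ(X, ⊤)))
  have h0 : IsPullback (eΨ.hom ≫ Spec.map (CommRingCat.ofHom Algebra.TensorProduct.includeLeftRingHom))
      (eΨ.hom ≫ Spec.map (CommRingCat.ofHom (Algebra.TensorProduct.includeRight : Γ(X, ⊤) →ₐ[k] DualNumber k ⊗[k] Γ(X, ⊤)).toRingHom))
      a₁ a₂ := by
    refine IsPullback.of_iso_pullback ⟨?_⟩ (eΨ ≪≫ (pullbackSpecIso k (DualNumber k) Γ(X, ⊤)).symm) ?_ ?_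
    · simp only [Category.assoc, a₁, a₂, ← Spec.map_comp]
      congr 2
      ext c
      exact Algebra.TensorProduct.tmul_one_eq_one_tmul c
    · rw [Iso.trans_hom, Iso.symm_hom, Category.assoc]
      exact congrArg (fun m => eΨ.hom ≫ m) (pullbackSpecIso_inv_fst k (DualNumber k) Γ(X, ⊤))
    · rw [Iso.trans_hom, Iso.symm_hom, Category.assoc]
      exact congrArg (fun m => eΨ.hom ≫ m) (pullbackSpecIso_inv_snd k (DualNumber k) Γ(X, ⊤))
  have hg1 : eΨ.hom ≫ Spec.map (CommRingCat.ofHom Algebra.TensorProduct.includeLeftRingHom) = g := by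
    have e1 : CommRingCat.ofHom Algebra.TensorProduct.includeLeftRingHom ≫ Ψi.hom = φB := by
      refine CommRingCat.hom_ext (RingHom.ext fun a => ?_)
      show Ψ (a ⊗ₜ[k] (1 : Γ(X, ⊤))) = φB.hom a
      simp [Ψ]
      rfl
    show (X'.isoSpec.hom ≫ Spec.map Ψi.hom) ≫ _ = g
    rw [Category.assoc, ← Spec.map_comp, e1, Spec.map_preimage]
    simp
  have hρ1 : eΨ.hom ≫ Spec.map (CommRingCat.ofHom (Algebra.TensorProduct.includeRight : Γ(X, ⊤) →ₐ[k] DualNumber k ⊗[k] Γ(X, ⊤)).toRingHom) ≫ X.isoSpec.inv = ρ := by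
    have e1 : CommRingCat.ofHom (Algebra.TensorProduct.includeRight : Γ(X, ⊤) →ₐ[k] DualNumber k ⊗[k] Γ(X, ⊤)).toRingHom ≫ Ψi.hom = sB := by
      ext a
      show Ψ ((1 : DualNumber k) ⊗ₜ[k] a) = σ a
      simp [Ψ]
    show (X'.isoSpec.hom ≫ Spec.map Ψi.hom) ≫ _ ≫ _ = ρ
    rw [Category.assoc, ← Category.assoc (Spec.map Ψi.hom), ← Spec.map_comp, e1]
  have hXa : X.isoSpec.inv ≫ hX = a₂ := (Spec.map_preimage _).symm
  have h1 : IsPullback ρ g hX a₁ := by
    refine IsPullback.of_iso h0.flip (Iso.refl _) X.isoSpec.symm (Iso.refl _) (Iso.refl _) ?_ ?_ ?_ ?_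
    · simp [← hρ1]
    · simp [hg1]
    · simp [hXa]
    · simp
  refine ⟨h1.isoPullback, h1.isoPullback_hom_snd, ?_, fun j => ?_⟩
  · rw [h1.isoPullback_hom_fst]
    have e1 : sB ≫ pR = 𝟙 _ := by ext r; exact hπσ r
    have e2 : i = X.isoSpec.hom ≫ Spec.map pR ≫ X'.isoSpec.inv := by rw [Spec.map_preimage]; simp
    rw [e2]
    simp only [ρ, Category.assoc, Iso.inv_hom_id_assoc]
    rw [← Spec.map_comp_assoc, e1, Spec.map_id, Category.id_comp, Iso.hom_inv_id]
  · rw [h1.isoPullback_hom_fst]
    have e1 : sB ≫ uB j = vR j ≫ CommRingCat.ofHom (algebraMap k (DualNumber k)) :=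
      CommRingCat.hom_ext (RingHom.ext fun r => hUσ j r)
    have e2 : p' j = Spec.map (uB j) ≫ X'.isoSpec.inv := by rw [Spec.map_preimage]; simp
    have e3 : p j = Spec.map (vR j) ≫ X.isoSpec.inv := by rw [Spec.map_preimage]; simp
    rw [e2, e3]
    simp only [ρ, Category.assoc, Iso.inv_hom_id_assoc]
    rw [← Spec.map_comp_assoc, e1, Spec.map_comp, Category.assoc]

end Groth.Agent.MarkedDef
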